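import Mathlib

/-!
A linear complex attached to an `m × n` matrix: the Eagon–Northcott complex built on tensors instead of exterior
powers. Its homology is killed by powers of the maximal minors.
-/

set_option autoImplicit false
set_option linter.unusedSectionVars false

universe u

open Finset

namespace Groth.Agent.DetReg

variable {R : Type u} [CommRing R] {n : ℕ}

/-- Tensors of degree `q`. -/
abbrev Sh (R : Type u) (n q : ℕ) : Type u := (Fin q → Fin n) → R

/-- The slice with first index `b`. -/
def slice {q : ℕ} (b : Fin n) : Sh R n (q + 1) →ₗ[R] Sh R n q :=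
  LinearMap.funLeft R R (fun t => (Fin.cons b t : Fin (q + 1) → Fin n))

lemma slice_apply {q : ℕ} (b : Fin n) (z : Sh R n (q + 1)) (t : Fin q → Fin n) : slice b z t = z (Fin.cons b t) := rfl

lemma ext_slice {q : ℕ} {z z' : Sh R n (q + 1)} (h : ∀ b, slice b z = slice b z') : z = z' := by
  funext t
  have := congrFun (h (t 0)) (Fin.tail t)
  rwa [slice_apply, slice_apply, Fin.cons_self_tail] at this

/-- Multiplication on the left by a vector. -/
def wedge {q : ℕ} (v : Fin n → R) : Sh R n q →ₗ[R] Sh R n (q + 1) where
  toFun z t := v (t 0) * z (Fin.tail t)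
  map_add' a b := by funext t; simp [mul_add]
  map_smul' r a := by funext t; simp [mul_left_comm]

lemma slice_wedge {q : ℕ} (v : Fin n → R) (b : Fin n) (z : Sh R n q) : slice b (wedge v z) = v b • z := by
  funext t
  simp [slice_apply, wedge]

/-- Contraction against a linear functional. -/
def cont : ∀ {q : ℕ}, (Fin n → R) → (Sh R n (q + 1) →ₗ[R] Sh R n q)
  | 0, f => ∑ b, f b • slice b
  | q + 1, f => (∑ b, f b • slice b) -
      { toFun := fun z t => cont f (slice (t 0) z) (Fin.tail t)
        map_add' := fun a b => by funext t; simp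
        map_smul' := fun r a => by funext t; simp }

lemma slice_cont {q : ℕ} (f : Fin n → R) (c : Fin n) (z : Sh R n (q + 2)) :
    slice c (cont f z) = ∑ b, f b • slice c (slice b z) - cont f (slice c z) := by
  rw [cont, LinearMap.sub_apply, map_sub, LinearMap.sum_apply, map_sum]
  simp only [LinearMap.smul_apply, map_smul]
  rfl

lemma cont_zero (f : Fin n → R) (z : Sh R n 1) : cont f z = ∑ b, f b • slice b z := by
  rw [cont, LinearMap.sum_apply]
  rfl

/-- Contraction is a derivation. -/
theorem cont_wedge : ∀ {q : ℕ} (f v : Fin n → R) (z : Sh R n (q + 1)),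
    cont f (wedge v z) + wedge v (cont f z) = (∑ b, f b * v b) • z := by
  intro q f v z
  refine ext_slice fun c => ?_
  rw [map_add, slice_cont, slice_wedge, slice_wedge, map_smul (cont f)]
  simp only [slice_wedge, map_smul]
  rw [sub_add_cancel, Finset.sum_smul]
  simp only [smul_smul]

lemma cont_wedge_zero (f v : Fin n → R) (z : Sh R n 0) : cont f (wedge v z) = (∑ b, f b * v b) • z := by
  rw [cont_zero, Finset.sum_smul]
  simp only [slice_wedge, smul_smul]

lemma cont_smul_left : ∀ {q : ℕ} (f : Fin n → R) (r : R) (z : Sh R n (q + 1)), cont f (r • z) = r • cont f z :=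
  fun f r z => map_smul (cont f) r z

/-- Contractions anticommute. -/
theorem cont_cont : ∀ {q : ℕ} (f g : Fin n → R) (z : Sh R n (q + 2)),
    cont f (cont g z) + cont g (cont f z) = 0 := by
  intro q
  induction q with
  | zero =>
    intro f g z
    have key : ∀ f g : Fin n → R, cont f (cont g z) =
        ∑ c, ∑ b, (f c * g b) • slice c (slice b z) - ∑ c, ∑ b, (f c * g b) • slice b (slice c z) := by
      intro f g
      rw [cont_zero]
      simp only [slice_cont, smul_sub, Finset.sum_sub_distrib, Finset.smul_sum, smul_smul, cont_zero]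
    rw [key f g, key g f, Finset.sum_comm (f := fun c b => (g c * f b) • slice c (slice b z)),
      Finset.sum_comm (f := fun c b => (g c * f b) • slice b (slice c z))]
    simp only [mul_comm (g _) (f _)]
    abel
  | succ q ih =>
    intro f g z
    have key : ∀ (f g : Fin n → R) (c : Fin n), slice c (cont f (cont g z)) =
        ∑ b, ∑ a, (f b * g a) • slice c (slice b (slice a z)) - ∑ b, f b • slice c (cont g (slice b z))
          - ∑ b, g b • cont f (slice c (slice b z)) + cont f (cont g (slice c z)) := by
      intro f g c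
      rw [slice_cont, slice_cont, map_sub, map_sum]
      simp only [slice_cont, map_sub, map_sum, map_smul, smul_sub, Finset.sum_sub_distrib, Finset.smul_sum, smul_smul]
      abel
    refine ext_slice fun c => ?_
    rw [map_add, key f g, key g f, map_zero]
    have h := ih f g (slice c z)
    simp only [slice_cont, smul_sub, Finset.sum_sub_distrib, Finset.smul_sum, smul_smul]
    rw [Finset.sum_comm (f := fun b a => (g b * f a) • slice c (slice b (slice a z))),
      Finset.sum_comm (f := fun b a => (g b * f a) • slice c (slice a (slice b z)))]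
    simp only [mul_comm (g _) (f _)]
    linear_combination (norm := abel) h

theorem cont_self : ∀ {q : ℕ} (f : Fin n → R) (z : Sh R n (q + 2)), cont f (cont f z) = 0 := by
  intro q
  induction q with
  | zero =>
    intro f z
    rw [cont_zero]
    simp only [slice_cont, smul_sub, Finset.sum_sub_distrib, Finset.smul_sum, smul_smul, cont_zero]
    rw [Finset.sum_comm, sub_eq_zero]
    exact Finset.sum_congr rfl fun a _ => Finset.sum_congr rfl fun b _ => by rw [mul_comm]
  | succ q ih =>
    intro f z
    refine ext_slice fun c => ?_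
    rw [slice_cont, slice_cont, map_sub, map_sum, ih]
    simp only [slice_cont, map_sub, map_sum, map_smul, smul_sub, Finset.sum_sub_distrib, Finset.smul_sum, smul_smul,
      sub_zero, map_zero]
    rw [Finset.sum_comm (f := fun b a => (f b * f a) • slice c (slice b (slice a z)))]
    have : ∀ a b : Fin n, f b * f a = f a * f b := fun a b => mul_comm _ _
    simp only [this]
    abel

variable {m : ℕ}

/-- A vector of weight one. -/
abbrev δ (j : Fin m) : Fin m → ℕ := Pi.single j 1

/-- The differential. -/
def dd {q : ℕ} (J : Finset (Fin m)) (L : Fin m → Fin n → R) (g : (Fin m → ℕ) → Sh R n (q + 1)) (β : Fin m → ℕ) :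
    Sh R n q :=
  ∑ j ∈ J, cont (L j) (g (β + δ j))

theorem dd_dd {q : ℕ} (J : Finset (Fin m)) (L : Fin m → Fin n → R) (g : (Fin m → ℕ) → Sh R n (q + 2))
    (β : Fin m → ℕ) : dd J L (dd J L g) β = 0 := by
  classical
  simp only [dd, map_sum]
  rw [← Finset.sum_product']
  refine Finset.sum_involution (fun p _ => (p.2, p.1)) (fun p _ => ?_) (fun p _ h => ?_)
    (fun p hp => Finset.mem_product.2 ⟨(Finset.mem_product.1 hp).2, (Finset.mem_product.1 hp).1⟩) (fun p _ => rfl)
  · change _ + cont (L p.2) (cont (L p.1) (g (β + δ p.2 + δ p.1))) = 0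
    rw [add_right_comm β (δ p.2) (δ p.1)]
    exact cont_cont _ _ _
  · intro he
    have he' : p.2 = p.1 := (Prod.ext_iff.1 he).1
    rw [he'] at h
    exact h (cont_self _ _)

/-- Supported in `J`, of weight `i`. -/
def Wt (J : Finset (Fin m)) (i : ℕ) (β : Fin m → ℕ) : Prop :=
  (∀ j ∉ J, β j = 0) ∧ ∑ j, β j = i

lemma sum_add_δ (β : Fin m → ℕ) (j : Fin m) : ∑ a, (β + δ j) a = ∑ a, β a + 1 := by
  simp [Finset.sum_add_distrib]

lemma Wt.add {J : Finset (Fin m)} {i : ℕ} {β : Fin m → ℕ} (h : Wt J i β) {j : Fin m} (hj : j ∈ J) :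
    Wt J (i + 1) (β + δ j) := by
  refine ⟨fun a ha => ?_, by rw [sum_add_δ, h.2]⟩
  have hne : a ≠ j := fun e => ha (e ▸ hj)
  simp [h.1 a ha, Pi.single_eq_of_ne hne]

variable (L : Fin m → Fin n → R) (Δ : R) (V : Fin m → Fin n → R)
  (hV : ∀ l j, ∑ b, L l b * V j b = if l = j then Δ else 0)
include hV

lemma cont_V {q : ℕ} (l j : Fin m) (x : Sh R n (q + 1)) :
    cont (L l) (wedge (V j) x) = (if l = j then Δ else 0) • x - wedge (V j) (cont (L l) x) := by
  rw [← hV l j, ← cont_wedge (L l) (V j) x, add_sub_cancel_right]

/-- Higher cycles times a power of a minor are boundaries. -/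
theorem exists_primitive : ∀ (J : Finset (Fin m)) (i q : ℕ) (f : (Fin m → ℕ) → Sh R n (q + 2)),
    (∀ β, Wt J i β → dd J L f β = 0) →
    ∃ g : (Fin m → ℕ) → Sh R n (q + 3), ∀ β, Wt J (i + 1) β → dd J L g β = Δ ^ J.card • f β := by
  classical
  intro J
  induction J using Finset.induction with
  | empty =>
    intro i q f _
    refine ⟨0, fun β hβ => ?_⟩
    have h0 : ∀ j, β j = 0 := fun j => hβ.1 j (Finset.notMem_empty j)
    have := hβ.2
    simp [h0] at this
  | insert l J hl ih =>
    intro i q f hf
    let g0 : (Fin m → ℕ) → Sh R n (q + 3) := fun γ => if γ l = 0 then 0 else wedge (V l) (f (γ - δ l))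
    let f' : (Fin m → ℕ) → Sh R n (q + 2) := fun β => wedge (V l) (cont (L l) (f β))
    have hne : ∀ j ∈ J, j ≠ l := fun j hj e => hl (e ▸ hj)
    have hδ : ∀ j ∈ J, δ j l = 0 := fun j hj => Pi.single_eq_of_ne (hne j hj).symm 1
    have hδl : δ l l = 1 := Pi.single_eq_same l 1
    have hins : ∀ {a : ℕ} {β : Fin m → ℕ}, Wt J a β → Wt (insert l J) a β := fun hβ =>
      ⟨fun a ha => hβ.1 a fun h' => ha (Finset.mem_insert_of_mem h'), hβ.2⟩
    obtain ⟨g', hg'⟩ := ih i q f' (fun β hβ => by
      have h := hf β (hins hβ)
      rw [dd, Finset.sum_insert hl] at h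
      have hJ : ∀ j ∈ J, cont (L j) (f' (β + δ j)) = wedge (V l) (cont (L l) (cont (L j) (f (β + δ j)))) := by
        intro j hj
        rw [cont_V L Δ V hV, if_neg (hne j hj), zero_smul, zero_sub, ← map_neg (wedge (V l))]
        congr 1
        rw [neg_eq_iff_add_eq_zero]
        exact cont_cont _ _ _
      rw [dd, Finset.sum_congr rfl hJ, ← map_sum, ← map_sum, eq_neg_of_add_eq_zero_right h, map_neg, cont_self,
        neg_zero, map_zero])
    have h0 : ∀ β, Wt (insert l J) (i + 1) β →
        dd (insert l J) L g0 β = Δ • f β - (if β l = 0 then f' β else 0) := by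
      intro β hβ
      have hl' : cont (L l) (g0 (β + δ l)) = Δ • f β - wedge (V l) (cont (L l) (f β)) := by
        have hsub : β + δ l - δ l = β := funext fun a => by simp
        simp only [g0, Pi.add_apply, hδl, Nat.add_eq_zero_iff, one_ne_zero, and_false, if_false, hsub]
        rw [cont_V L Δ V hV, if_pos rfl]
      rw [dd, Finset.sum_insert hl, hl']
      split_ifs with hb
      · rw [Finset.sum_eq_zero (fun j hj => by simp [g0, hb, hδ j hj]), add_zero]
      · have hJ : ∀ j ∈ J, cont (L j) (g0 (β + δ j)) = -wedge (V l) (cont (L j) (f (β - δ l + δ j))) := by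
          intro j hj
          have hsub : β + δ j - δ l = β - δ l + δ j := funext fun a => by
            by_cases ha : a = l
            · subst ha; simp [hδ j hj]
            · simp [Pi.single_eq_of_ne ha]
          simp only [g0, Pi.add_apply, hδ j hj, add_zero, hb, if_false, hsub]
          rw [cont_V L Δ V hV, if_neg (hne j hj), zero_smul, zero_sub]
        have hw : Wt (insert l J) i (β - δ l) := by
          have hβ' : β - δ l + δ l = β := funext fun a => by
            by_cases ha : a = l
            · subst ha; simp; omega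
            · simp [Pi.single_eq_of_ne ha]
          refine ⟨fun a ha => by simp [hβ.1 a ha], ?_⟩
          have := sum_add_δ (β - δ l) l
          rw [hβ', hβ.2] at this
          omega
        have h := hf _ hw
        rw [dd, Finset.sum_insert hl] at h
        have hb' : β - δ l + δ l = β := funext fun a => by
          by_cases ha : a = l
          · subst ha; simp; omega
          · simp [Pi.single_eq_of_ne ha]
        rw [hb'] at h
        rw [Finset.sum_congr rfl hJ, Finset.sum_neg_distrib, ← map_sum, eq_neg_of_add_eq_zero_right h, map_neg, neg_neg,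
          sub_add_cancel, sub_zero]
    refine ⟨fun γ => Δ ^ J.card • g0 γ + (if γ l = 0 then g' γ else 0), fun β hβ => ?_⟩
    have hsplit : dd (insert l J) L (fun γ => Δ ^ J.card • g0 γ + (if γ l = 0 then g' γ else 0)) β =
        Δ ^ J.card • dd (insert l J) L g0 β + dd (insert l J) L (fun γ => if γ l = 0 then g' γ else 0) β := by
      simp only [dd, map_add, map_smul, Finset.sum_add_distrib, Finset.smul_sum]
    rw [hsplit, h0 β hβ, Finset.card_insert_of_notMem hl, pow_succ, mul_smul, smul_sub]
    have h1 : dd (insert l J) L (fun γ => if γ l = 0 then g' γ else 0) β =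
        if β l = 0 then Δ ^ J.card • f' β else 0 := by
      rw [dd, Finset.sum_insert hl]
      simp only [Pi.add_apply, hδl, Nat.add_eq_zero_iff, one_ne_zero, and_false, if_false, map_zero, zero_add]
      split_ifs with hb
      · rw [← hg' β ⟨fun a ha => ?_, hβ.2⟩, dd]
        · exact Finset.sum_congr rfl fun j hj => by simp [hδ j hj, hb]
        · by_cases e : a = l
          · exact e ▸ hb
          · exact hβ.1 a (by simp [e, ha])
      · exact Finset.sum_eq_zero fun j hj => by simp [hδ j hj, hb]
    rw [h1]
    split_ifs <;> simp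

omit hV

/-- The augmentation: the determinant map. -/
def aug : ∀ {m : ℕ}, (Fin m → Fin n → R) → (Sh R n m →ₗ[R] R)
  | 0, _ => LinearMap.proj Fin.elim0
  | _ + 1, L => aug (Fin.tail L) ∘ₗ cont (L 0)

lemma aug_succ (L : Fin (m + 1) → Fin n → R) (z : Sh R n (m + 1)) :
    aug L z = aug (Fin.tail L) (cont (L 0) z) := rfl

theorem aug_cont : ∀ {m : ℕ} (L : Fin m → Fin n → R) (j : Fin m) (z : Sh R n (m + 1)), aug L (cont (L j) z) = 0 := by
  intro m
  induction m with
  | zero => intro L j; exact j.elim0
  | succ m ih =>
    intro L j z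
    rw [aug_succ]
    induction j using Fin.cases with
    | zero => rw [cont_self, map_zero]
    | succ j =>
      rw [eq_neg_of_add_eq_zero_left (cont_cont (L 0) (L j.succ) z), map_neg,
        show L j.succ = Fin.tail L j from rfl, ih, neg_zero]

/-- Cycles in degree zero times a power of a minor are boundaries. -/
theorem exists_primitive_zero : ∀ {m : ℕ} (L : Fin m → Fin n → R) (Δ : R) (V : Fin m → Fin n → R)
    (_ : ∀ l j, ∑ b, L l b * V j b = if l = j then Δ else 0) (w : Sh R n m), aug L w = 0 →
    ∃ g : Fin m → Sh R n (m + 1), ∑ j, cont (L j) (g j) = Δ ^ m • w := by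
  intro m
  induction m with
  | zero =>
    intro L Δ V _ w hw
    refine ⟨fun j => j.elim0, ?_⟩
    have : w = 0 := funext fun t => by rw [Subsingleton.elim t Fin.elim0]; exact hw
    simp [this]
  | succ m ih =>
    intro L Δ V hV w hw
    obtain ⟨g, hg⟩ := ih (Fin.tail L) Δ (Fin.tail V) (fun l j => by
      rw [show Fin.tail L l = L l.succ from rfl, show Fin.tail V j = V j.succ from rfl, hV]
      simp [Fin.succ_inj]) (cont (L 0) w) hw
    refine ⟨Fin.cons (Δ ^ m • wedge (V 0) w) (fun j => -wedge (V 0) (g j)), ?_⟩
    rw [Fin.sum_univ_succ]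
    simp only [Fin.cons_zero, Fin.cons_succ, map_neg, map_smul, cont_V L Δ V hV, Fin.succ_ne_zero, if_false, if_true, zero_smul,
      zero_sub, neg_neg]
    rw [← map_sum, show ∑ j : Fin m, cont (L j.succ) (g j) = Δ ^ m • cont (L 0) w from hg, map_smul, smul_sub,
      sub_add_cancel, smul_smul, pow_succ]

lemma cont_single : ∀ {q : ℕ} (f : Fin n → R) (t : Fin (q + 1) → Fin n),
    cont f (Pi.single t 1) = ∑ p : Fin (q + 1), ((-1) ^ (p : ℕ) * f (t p)) • Pi.single (t ∘ p.succAbove) 1 := by
  classical
  have hs : ∀ {q : ℕ} (c : Fin n) (t : Fin (q + 1) → Fin n),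
      slice c (Pi.single t (1 : R)) = if t 0 = c then Pi.single (Fin.tail t) 1 else 0 := by
    intro q c t
    funext u
    rw [slice_apply]
    by_cases h : t 0 = c
    · subst h
      rw [if_pos rfl]
      by_cases hu : u = Fin.tail t
      · subst hu; rw [Fin.cons_self_tail, Pi.single_eq_same, Pi.single_eq_same]
      · rw [Pi.single_eq_of_ne hu, Pi.single_eq_of_ne]
        intro e
        exact hu (by rw [← e, Fin.tail_cons])
    · rw [if_neg h, Pi.zero_apply, Pi.single_eq_of_ne]
      intro e
      exact h (by rw [← e, Fin.cons_zero])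
  intro q
  induction q with
  | zero =>
    intro f t
    rw [cont_zero, Fin.sum_univ_one, Finset.sum_eq_single (t 0) (fun b _ hb => by rw [hs, if_neg (Ne.symm hb), smul_zero])
      (fun h => absurd (Finset.mem_univ _) h), hs, if_pos rfl]
    simp [Fin.tail_def, Function.comp_def, Fin.succAbove_zero]
  | succ q ih =>
    intro f t
    refine ext_slice fun c => ?_
    rw [slice_cont, Fin.sum_univ_succ, map_add, map_smul, map_sum,
      Finset.sum_eq_single (t 0) (fun b _ hb => by rw [hs b t, if_neg (Ne.symm hb), map_zero, smul_zero])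
      (fun h => absurd (Finset.mem_univ _) h), hs (t 0) t, if_pos rfl, hs c t]
    have h0 : t ∘ (0 : Fin (q + 2)).succAbove = Fin.tail t := by
      funext u; simp [Fin.tail_def, Fin.succAbove_zero]
    rw [h0, Fin.val_zero, pow_zero, one_mul, sub_eq_add_neg]
    congr 1
    by_cases hc : t 0 = c
    · rw [if_pos hc, ih, ← Finset.sum_neg_distrib]
      refine Finset.sum_congr rfl fun p _ => ?_
      rw [map_smul, hs, Function.comp_apply, Fin.succ_succAbove_zero, if_pos hc, Fin.val_succ, pow_succ, ← neg_smul]
      congr 1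
      · simp [Fin.tail_def]
      · congr 1
        funext u
        simp [Fin.tail_def, Fin.succ_succAbove_succ]
    · rw [if_neg hc, map_zero, neg_zero]
      refine (Finset.sum_eq_zero fun p _ => ?_).symm
      rw [map_smul, hs, Function.comp_apply, Fin.succ_succAbove_zero, if_neg hc, smul_zero]

/-- The augmentation takes the basis to the minors. -/
theorem aug_single : ∀ {m : ℕ} (L : Fin m → Fin n → R) (t : Fin m → Fin n),
    aug L (Pi.single t 1) = (Matrix.of fun a p => L a (t p)).det := by
  intro m
  induction m with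
  | zero =>
    intro L t
    rw [Matrix.det_isEmpty]
    change (Pi.single t (1 : R) : Sh R n 0) Fin.elim0 = 1
    rw [Subsingleton.elim Fin.elim0 t, Pi.single_eq_same]
  | succ m ih =>
    intro L t
    rw [aug_succ, cont_single, map_sum, Matrix.det_succ_row_zero]
    refine Finset.sum_congr rfl fun p _ => ?_
    rw [map_smul, ih, smul_eq_mul]
    rfl

/-- Vectors dual to the rows up to a minor. -/
theorem exists_dual (L : Fin m → Fin n → R) (t : Fin m → Fin n) :
    ∃ V : Fin m → Fin n → R, ∀ l j,
      ∑ b, L l b * V j b = if l = j then (Matrix.of fun a p => L a (t p)).det else 0 := by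
  classical
  set A := Matrix.of fun a p => L a (t p) with hA
  refine ⟨fun j b => ∑ p, if t p = b then A.adjugate p j else 0, fun l j => ?_⟩
  have h := congrFun (congrFun (Matrix.mul_adjugate A) l) j
  rw [Matrix.mul_apply, Matrix.smul_apply, Matrix.one_apply, smul_eq_mul, mul_ite, mul_one, mul_zero] at h
  rw [← h]
  simp only [Finset.mul_sum, mul_ite, mul_zero]
  rw [Finset.sum_comm]
  refine Finset.sum_congr rfl fun p _ => ?_
  rw [Finset.sum_ite_eq]
  simp [hA]

/-- Contraction against entries of one degree raises the degree. -/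
theorem cont_mem {S : Type*} [SetLike S R] [AddSubgroupClass S R] (Q : S) (P : Set R) :
    ∀ {q : ℕ} (f : Fin n → R), (∀ b, ∀ x ∈ P, f b * x ∈ Q) → ∀ z : Sh R n (q + 1), (∀ t, z t ∈ P) →
      ∀ t, cont f z t ∈ Q := by
  intro q
  induction q with
  | zero =>
    intro f hf z hz t
    rw [cont_zero, Finset.sum_apply]
    exact sum_mem fun b _ => hf b _ (hz _)
  | succ q ih =>
    intro f hf z hz t
    have : cont f z t = ∑ b, f b * z (Fin.cons b t) - cont f (slice (t 0) z) (Fin.tail t) := by
      rw [cont, LinearMap.sub_apply, Pi.sub_apply, LinearMap.sum_apply, Finset.sum_apply]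
      rfl
    rw [this]
    exact sub_mem (sum_mem fun b _ => hf b _ (hz _)) (ih f hf _ (fun u => hz _) _)

end Groth.Agent.DetReg
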