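import Groth.Agent.RegPow.Sheaf
import Groth.Agent.DetReg.Algebra
import Groth.Agent.FittLib.Sheaf
import Groth.Agent.FittLib.Basic
import Groth.Agent.Devissage.Power
import Groth.Agent.Devissage.Piece
import Groth.Prelude.Def_FlatMod2

/-!
The Fitting ideal of the cokernel of a matrix of linear forms on projective space.
-/

set_option autoImplicit false
set_option linter.unusedSectionVars false
set_option linter.style.haveILetI false
set_option backward.isDefEq.respectTransparency false
set_option maxHeartbeats 1000000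

universe u

open CategoryTheory CategoryTheory.Limits AlgebraicGeometry MvPolynomial

attribute [local instance] CategoryTheory.Abelian.hasFiniteBiproducts
open Groth.Agent.QC (res resO app_res res_self resO_self)
open Groth.Agent.RegPow (S D dh chI gen isGen_gen X_mem hgen isAffine_D e0 isGen_e0)

noncomputable section

namespace Groth.Agent.DetReg

variable {X : Scheme.{u}}

/-- Evaluation of morphisms at a section. -/
def evalApp {M N : X.Modules} {U : X.Opens} (s : Γ(M, U)) : (M ⟶ N) →+ Γ(N, U) :=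
  AddMonoidHom.mk' (fun f => f.app U s) fun _ _ => rfl

/-- The image of a morphism of quasi-coherent modules on an affine open. -/
theorem exists_preimage {M N : X.Modules} (hM : Coh.IsQCoh M) (hN : Coh.IsQCoh N) (φ : M ⟶ N) {U : X.Opens}
    (hU : IsAffineOpen U) {t : Γ(N, U)} (ht : (cokernel.π φ).app U t = 0) : ∃ s, φ.app U s = t := by
  have hQ : Coh.IsQCoh (cokernel φ) := QC.isQCoh_cokernel hM hN φ
  obtain ⟨u, hu⟩ := (QC.mem_range_kernel_app (cokernel.π φ) U t).2 ht
  obtain ⟨s, hs⟩ := QC.app_surjective_of_epi hU hM (QC.isQCoh_kernel hN hQ (cokernel.π φ))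
    (Abelian.factorThruImage φ) u
  refine ⟨s, ?_⟩
  rw [← hu, ← hs, ← ConcreteCategory.comp_apply, ← Scheme.Modules.Hom.comp_app, Abelian.image.fac]

section Sigma

variable {n : ℕ} (M : X.Modules)

/-- The projections of a finite sum. -/
def pr (a : Fin n) : (∐ fun _ : Fin n => M) ⟶ M := Sigma.desc fun b => if b = a then 𝟙 M else 0

lemma total : ∑ a : Fin n, pr M a ≫ Sigma.ι (fun _ : Fin n => M) a = 𝟙 _ := by
  refine Sigma.hom_ext _ _ fun b => ?_
  rw [Preadditive.comp_sum, Category.comp_id, Finset.sum_eq_single b]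
  · rw [pr, colimit.ι_desc_assoc]
    exact (congrArg (· ≫ _) (if_pos rfl)).trans (Category.id_comp _)
  · intro a _ ha
    rw [pr, colimit.ι_desc_assoc]
    exact (congrArg (· ≫ _) (if_neg (Ne.symm ha))).trans zero_comp
  · exact fun h => absurd (Finset.mem_univ _) h

lemma eq_sum {U : X.Opens} (s : Γ((∐ fun _ : Fin n => M : X.Modules), U)) :
    s = ∑ a : Fin n, (Sigma.ι (fun _ : Fin n => M) a).app U ((pr M a).app U s) := by
  conv_lhs => rw [show s = evalApp s (𝟙 (∐ fun _ : Fin n => M : X.Modules)) from rfl, ← total M, map_sum]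
  rfl

end Sigma

section Act

variable {F L : X.Modules} (f : F ⟶ Coh.structureModule X)

/-- A local section seen as a function. -/
def fv (U : X.Opens) (a : Γ(F, U)) : Γ(X, U) := f.app U a

variable (L) in
/-- Multiplication by the values of `f`. -/
def actBil (U : X.Opens) : Γ(F, U) →ₗ[Γ(X, U)] Γ(L, U) →ₗ[Γ(X, U)] Γ(L, U) :=
  LinearMap.mk₂ _ (fun a s => fv f U a • s)
    (fun a b s => by rw [fv, map_add]; exact add_smul _ _ _)
    (fun c a s => by rw [fv, Scheme.Modules.Hom.app_smul]; exact mul_smul _ _ _)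
    (fun a s t => smul_add _ _ _)
    (fun c a s => smul_comm _ _ _)

lemma actBil_res {V U : X.Opens} (h : V ≤ U) (a : Γ(F, U)) (s : Γ(L, U)) :
    res L h (actBil L f U a s) = actBil L f V (res F h a) (res L h s) := by
  simp only [actBil, LinearMap.mk₂_apply]
  rw [QC.res_smul]
  exact congrArg (· • _) (app_res f h a)

variable (L) in
/-- `F ⊗ L ⟶ L`. -/
def act : CohB1.tensorMod F L ⟶ L := TMul.lift (actBil L f) fun h a s => actBil_res f h a s

lemma act_tm {U : X.Opens} (a : Γ(F, U)) (s : Γ(L, U)) : (act L f).app U (TMul.tm a s) = fv f U a • s :=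
  TMul.lift_tm (actBil L f) (fun h a s => actBil_res f h a s) a s

end Act

variable {k : Type u} [Field k] {r : ℕ}

local notation "𝒜" => CohB1.polyGrading r k

lemma eq_dh {w : Γ(Twist.twistProjSpace r k ((1 : ℕ) : ℤ), ⊤)} {z : CohB1.polyGrading r k 1}
    (hz : Twist.globalOf (CohB1.polyGrading r k) z = w) (j : Fin (r + 1)) (c : Γ(CohB1.ProjSpace r k, D (k := k) j))
    (hc : res (Twist.twistProjSpace r k ((1 : ℕ) : ℤ)) le_top w = c • gen (k := k) ((1 : ℕ) : ℤ) j) :
    c = dh j (z : S k r) := by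
  refine (isGen_gen (k := k) ((1 : ℕ) : ℤ) j (D j) le_rfl).1 ?_
  change c • res _ le_rfl _ = dh j (z : S k r) • res _ le_rfl _
  rw [res_self, ← hc, ← hz]
  refine GrT.pt_ext 𝒜 𝒜 fun y => ?_
  have hy := GrT.not_mem_pow 𝒜 (GrT.not_mem_of_mem 𝒜 le_rfl y) 1
  have hp : GrT.pO 𝒜 (dh j (z : S k r)) y = Localization.mk (z : S k r) ⟨MvPolynomial.X j ^ 1, hy⟩ := by
    rw [← resO_self le_rfl (dh j (z : S k r))]
    exact GrT.pO_deh 𝒜 (X_mem j) z.2 le_rfl y hy
  change (Localization.mk (z : S k r) ⟨1, _⟩ : Twist.Loc 𝒜 y.1) =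
    GrT.pO 𝒜 (dh j (z : S k r)) y * Localization.mk ((MvPolynomial.X j : S k r) ^ ((1 : ℕ) : ℤ).toNat) ⟨MvPolynomial.X j ^ (-((1 : ℕ) : ℤ)).toNat, _⟩
  rw [hp, Localization.mk_mul, Localization.mk_eq_mk_iff, Localization.r_iff_exists]
  refine ⟨1, ?_⟩
  simp only [Submonoid.coe_mul, OneMemClass.coe_one, one_mul, Int.toNat_natCast, Int.toNat_neg_natCast, pow_zero, mul_one]
  ring

/-- A morphism `O(-1) ⟶ O` is multiplication by a linear form. -/
theorem exists_linear (f : Twist.twistProjSpace r k (-1) ⟶ Coh.structureModule (CohB1.ProjSpace r k)) :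
    ∃ z : S k r, z ∈ CohB1.polyGrading r k 1 ∧ ∀ i, fv f (D i) (gen (k := k) (-1) i) = dh i z := by
  have hc : (-1 : ℤ) + ((1 : ℕ) : ℤ) = 0 := by norm_num
  let ε : CohB1.tensorMod (Twist.twistProjSpace r k (-1)) (Twist.twistProjSpace r k ((1 : ℕ) : ℤ)) ⟶
      GrTilde.tilde (CohB1.polyGrading r k) (CohB1.polyGrading r k) 0 := GrT.tensorHom (CohB1.polyGrading r k) hc
  haveI : IsIso ε := GrT.isIso_tensorHom (CohB1.polyGrading r k) (CohFinite.cov_one r k) hc
  let w : Γ(Twist.twistProjSpace r k ((1 : ℕ) : ℤ), ⊤) := (inv ε ≫ act _ f).app ⊤ (e0 (k := k) (r := r))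
  have h1 : CohB1.polyGrading r k 1 ≠ ⊥ := fun h =>
    MvPolynomial.X_ne_zero (R := k) (0 : Fin (r + 1)) ((Submodule.mem_bot k).1 (h ▸ X_mem 0))
  obtain ⟨z, hz⟩ := (Groth.Agent.S10908.result (CohB1.polyGrading r k) hgen h1
    UniqueFactorizationMonoid.instIsIntegrallyClosed 1).2 w
  refine ⟨z, z.2, fun i => eq_dh hz i _ ?_⟩
  have hε : ε.app (D i) (TMul.tm (gen (k := k) (-1) i) (gen (k := k) ((1 : ℕ) : ℤ) i)) =
      res (GrTilde.tilde 𝒜 𝒜 0) le_top (e0 (k := k) (r := r)) := by
    refine (GrT.tensorHom_tm (CohB1.polyGrading r k) hc _ _).trans ?_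
    refine GrT.pt_ext 𝒜 𝒜 fun y => ?_
    rw [GrT.pt_mulSect, GrT.pt_res]
    change (Localization.mk ((MvPolynomial.X i : S k r) ^ ((1 : ℕ) : ℤ).toNat) ⟨MvPolynomial.X i ^ (-((1 : ℕ) : ℤ)).toNat, _⟩ : Twist.Loc 𝒜 y.1) *
      Localization.mk ((MvPolynomial.X i : S k r) ^ (-1 : ℤ).toNat) ⟨MvPolynomial.X i ^ (-(-1 : ℤ)).toNat, _⟩ = Localization.mk 1 ⟨1, _⟩
    rw [Localization.mk_mul, Localization.mk_eq_mk_iff, Localization.r_iff_exists]
    refine ⟨1, ?_⟩
    norm_num [Submonoid.coe_mul]
    first | done | ring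
  have hinv : ∀ v, (inv ε).app (D (k := k) i) (ε.app (D i) v) = v := fun v => by
    rw [← ConcreteCategory.comp_apply, ← Scheme.Modules.Hom.comp_app, IsIso.hom_inv_id]
    rfl
  refine (app_res (inv ε ≫ act _ f) le_top (e0 (k := k) (r := r))).trans ?_
  rw [Scheme.Modules.Hom.comp_app, ConcreteCategory.comp_apply, ← hε, hinv, act_tm]

section Matrix

variable {m n : ℕ} (φ : (∐ fun _ : Fin n => Twist.twistProjSpace r k (-1)) ⟶ FlatMod.freeMod (CohB1.ProjSpace r k) m)

/-- The `(a, b)` entry. -/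
def entry (a : Fin m) (b : Fin n) : Twist.twistProjSpace r k (-1) ⟶ Coh.structureModule (CohB1.ProjSpace r k) :=
  Sigma.ι (fun _ : Fin n => Twist.twistProjSpace r k (-1)) b ≫ φ ≫ pr _ a

/-- The matrix of linear forms. -/
def mat (a : Fin m) (b : Fin n) : S k r := (exists_linear (entry φ a b)).choose

lemma mat_mem (a : Fin m) (b : Fin n) : mat φ a b ∈ CohB1.polyGrading r k 1 :=
  (exists_linear (entry φ a b)).choose_spec.1

lemma dh_mat (a : Fin m) (b : Fin n) (i : Fin (r + 1)) :
    fv (entry φ a b) (D i) (gen (k := k) (-1) i) = dh i (mat φ a b) :=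
  (exists_linear (entry φ a b)).choose_spec.2 i

/-- The maximal minors. -/
def Dlt (t : Fin m → Fin n) : S k r := (Matrix.of fun a p => mat φ a (t p)).det

lemma Dlt_mem (t : Fin m → Fin n) : Dlt φ t ∈ CohB1.polyGrading r k m := by
  rw [Dlt, Matrix.det_apply]
  refine Submodule.sum_mem _ fun σ _ => zsmul_mem ?_ _
  have h : ∀ p ∈ (Finset.univ : Finset (Fin m)), IsHomogeneous (Matrix.of (fun a p => mat φ a (t p)) (σ p) p) 1 :=
    fun p _ => mat_mem φ _ _
  have := IsHomogeneous.prod Finset.univ _ (fun _ => 1) h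
  simpa using this

/-- The chosen generators. -/
def ee (i : Fin (r + 1)) (a : Fin m) : Γ((cokernel φ), D (k := k) i) :=
  (cokernel.π φ).app (D i) (TMul.val (Sigma.ι (fun _ : Fin m => Coh.structureModule (CohB1.ProjSpace r k)) a) (D i))

lemma isCoh_sigma (n : ℕ) {M : (CohB1.ProjSpace r k).Modules} (hM : Coh.IsCoh M) :
    Coh.IsCoh (∐ fun _ : Fin n => M : (CohB1.ProjSpace r k).Modules) :=
  CohFinite.isCoh_of_iso (biproduct.isoCoproduct _) (Devissage.isCoh_biproduct _ fun _ => hM)

lemma isCoh_src : Coh.IsCoh (∐ fun _ : Fin n => Twist.twistProjSpace r k (-1)) :=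
  isCoh_sigma n (CohFinite.isCoh_twist r k _)

lemma isCoh_tgt (m : ℕ) : Coh.IsCoh (FlatMod.freeMod (CohB1.ProjSpace r k) m) :=
  isCoh_sigma m (Devissage.isCoh_unit _)

lemma eq_combo (i : Fin (r + 1)) (s : Γ(FlatMod.freeMod (CohB1.ProjSpace r k) m, D (k := k) i)) :
    s = ∑ a, fv (pr (Coh.structureModule (CohB1.ProjSpace r k)) a) (D i) s •
      TMul.val (Sigma.ι (fun _ : Fin m => Coh.structureModule (CohB1.ProjSpace r k)) a) (D i) := by
  conv_lhs => rw [eq_sum _ s]
  exact Finset.sum_congr rfl fun a _ => TMul.app_eq_smul _ _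

lemma app_gen_eq (i : Fin (r + 1)) (b : Fin n) :
    φ.app (D i) ((Sigma.ι (fun _ : Fin n => Twist.twistProjSpace r k (-1)) b).app (D i) (gen (k := k) (-1) i)) =
      ∑ a, dh i (mat φ a b) •
        TMul.val (Sigma.ι (fun _ : Fin m => Coh.structureModule (CohB1.ProjSpace r k)) a) (D i) := by
  conv_lhs => rw [eq_combo i (φ.app (D i) _)]
  exact Finset.sum_congr rfl fun a _ => congrArg (· • _) (dh_mat φ a b i)

theorem span_ee (i : Fin (r + 1)) :
    Submodule.span Γ(CohB1.ProjSpace r k, D (k := k) i) (Set.range (ee φ i)) = ⊤ := by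
  refine eq_top_iff.2 fun x _ => ?_
  haveI := isCoh_src (k := k) (r := r) (n := n)
  obtain ⟨s, rfl⟩ := QC.app_surjective_of_epi (isAffine_D i) (isCoh_tgt (k := k) (r := r) m).1
    (QC.isQCoh_cokernel (isCoh_src (k := k) (r := r) (n := n)).1 (isCoh_tgt (k := k) (r := r) m).1 φ) (cokernel.π φ) x
  rw [eq_combo i s, map_sum]
  refine Submodule.sum_mem _ fun a _ => ?_
  rw [Scheme.Modules.Hom.app_smul]
  exact Submodule.smul_mem _ _ (Submodule.subset_span ⟨a, rfl⟩)

lemma linearCombination_eq (i : Fin (r + 1)) (z : Fin m → Γ(CohB1.ProjSpace r k, D (k := k) i)) :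
    ∑ a, z a • ee φ i a = (cokernel.π φ).app (D i) (∑ a, z a •
      TMul.val (Sigma.ι (fun _ : Fin m => Coh.structureModule (CohB1.ProjSpace r k)) a) (D i)) := by
  rw [map_sum]
  exact Finset.sum_congr rfl fun a _ => (Scheme.Modules.Hom.app_smul _ _ _).symm

/-- The Fitting ideal of the cokernel in a chart. -/
theorem chI_fitt (i : Fin (r + 1)) :
    chI (Fitt.sheafIdeal (cokernel φ) 0) i = (Ideal.span (Set.range (Dlt φ))).map (dh i) := by
  classical
  haveI : IsNoetherian (CohB1.ProjSpace r k) := CohFinite.isNoetherian_projSpace r k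
  have hC : Coh.IsCoh (cokernel φ) :=
    QC.isCoh_cokernel (isCoh_src (k := k) (r := r) (n := n)).1 (isCoh_tgt (k := k) (r := r) m) φ
  change (Fitt.sheafIdeal (cokernel φ) 0).ideal ⟨D i, isAffine_D i⟩ = _
  rw [FittLib.sheafIdeal_ideal hC.1 hC.2, FittLib.ideal_eq_minors (ee φ i) (span_ee φ i), Fintype.card_fin,
    Nat.sub_zero]
  let col : Fin n → Fin m → Γ(CohB1.ProjSpace r k, D (k := k) i) := fun b a => dh i (mat φ a b)
  have hdet : ∀ t : Fin m → Fin n, FittLib.minor (fun j => col (t j)) id = dh i (Dlt φ t) := fun t => by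
    rw [Dlt, RingHom.map_det]
    rfl
  have hcol : ∀ b, col b ∈ FittLib.rel _ (ee φ i) := fun b => by
    rw [FittLib.mem_rel, linearCombination_eq, ← app_gen_eq φ i b, ← ConcreteCategory.comp_apply,
      ← Scheme.Modules.Hom.comp_app, cokernel.condition]
    rfl
  refine le_antisymm (FittLib.minors_le_of_span (Set.range col) ?_ ?_) ?_
  · intro z hz
    rw [FittLib.mem_rel, linearCombination_eq] at hz
    obtain ⟨s, hs⟩ := exists_preimage (isCoh_src (k := k) (r := r) (n := n)).1 (isCoh_tgt (k := k) (r := r) m).1 φ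
      (isAffine_D i) hz
    choose c hc using fun b => (isGen_gen (k := k) (-1) i (D i) le_rfl).2
      ((pr (Twist.twistProjSpace r k (-1)) b).app (D i) s)
    rw [eq_sum _ s, map_sum] at hs
    have hs' : ∑ a, z a • TMul.val (Sigma.ι (fun _ : Fin m => Coh.structureModule (CohB1.ProjSpace r k)) a) (D i) =
        ∑ a, (∑ b, c b * col b a) • TMul.val (Sigma.ι (fun _ : Fin m => Coh.structureModule (CohB1.ProjSpace r k)) a) (D i) := by
      rw [← hs]
      simp only [Finset.sum_smul, mul_smul]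
      rw [Finset.sum_comm]
      refine Finset.sum_congr rfl fun b _ => ?_
      rw [← Finset.smul_sum, ← app_gen_eq φ i b, ← hc b]
      change φ.app (D i) ((Sigma.ι (fun _ : Fin n => Twist.twistProjSpace r k (-1)) b).app (D i)
        (c b • res _ le_rfl _)) = _
      rw [res_self, Scheme.Modules.Hom.app_smul, Scheme.Modules.Hom.app_smul]
    have hindep : ∀ x : Fin m → Γ(CohB1.ProjSpace r k, D (k := k) i),
        (fun a => fv (pr (Coh.structureModule (CohB1.ProjSpace r k)) a) (D i) (∑ a, x a •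
          TMul.val (Sigma.ι (fun _ : Fin m => Coh.structureModule (CohB1.ProjSpace r k)) a) (D i))) = x := fun x => by
      funext a
      rw [fv, map_sum, Finset.sum_eq_single a]
      · rw [← TMul.app_eq_smul, ← ConcreteCategory.comp_apply, ← Scheme.Modules.Hom.comp_app, pr, colimit.ι_desc]
        exact congrArg (fun q : Coh.structureModule (CohB1.ProjSpace r k) ⟶ Coh.structureModule (CohB1.ProjSpace r k) =>
          q.app (D i) (x a)) (if_pos rfl)
      · intro b _ hb
        rw [← TMul.app_eq_smul, ← ConcreteCategory.comp_apply, ← Scheme.Modules.Hom.comp_app, pr, colimit.ι_desc]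
        exact congrArg (fun q : Coh.structureModule (CohB1.ProjSpace r k) ⟶ Coh.structureModule (CohB1.ProjSpace r k) =>
          q.app (D i) (x b)) (if_neg hb)
      · exact fun h => absurd (Finset.mem_univ _) h
    have hz' : z = fun a => ∑ b, c b * col b a := by
      rw [← hindep z, hs', hindep]
    rw [hz', show (fun a => ∑ b, c b * col b a) = ∑ b, c b • col b from funext fun a => by simp [Finset.sum_apply]]
    exact Submodule.sum_mem _ fun b _ => Submodule.smul_mem _ _ (Submodule.subset_span ⟨b, rfl⟩)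
  · intro z e hz
    choose t ht using hz
    obtain rfl : z = fun j => col (t j) := funext fun j => (ht j).symm
    by_cases he : Function.Injective e
    · have hb := Finite.injective_iff_bijective.1 he
      have hperm : FittLib.minor (fun j => col (t j)) e =
          Equiv.Perm.sign (Equiv.ofBijective e hb) * FittLib.minor (fun j => col (t j)) id :=
        Matrix.det_permute (Equiv.ofBijective e hb) (Matrix.of fun a b => col (t b) a)
      rw [hperm, hdet]
      exact Ideal.mul_mem_left _ _ (Ideal.mem_map_of_mem _ (Ideal.subset_span ⟨t, rfl⟩))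
    · rw [FittLib.minor_eq_zero_of_not_injective _ _ he]
      exact zero_mem _
  · rw [Ideal.map_span, Ideal.span_le]
    rintro _ ⟨_, ⟨t, rfl⟩, rfl⟩
    rw [← hdet]
    exact FittLib.minor_mem_minors (fun j => hcol (t j)) id

end Matrix

end Groth.Agent.DetReg
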