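import Groth.Agent.RegPow.Sheaf
import Groth.Agent.DetReg.Algebra
import Groth.Agent.Devissage.Power
import Groth.Agent.RegTilde.Complexes
import Groth.Agent.TMul.GlobGen

/-!
The linear complex of sheaves of a matrix of linear forms.
-/

set_option autoImplicit false
set_option linter.unusedSectionVars false
set_option linter.style.haveILetI false
set_option backward.isDefEq.respectTransparency false
set_option maxHeartbeats 1000000

universe u

open CategoryTheory CategoryTheory.Limits AlgebraicGeometry TopologicalSpace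
open Groth.Agent.QC (res resO app_res res_self resO_self)
open Groth.Agent.RegTilde (mem_std_of_poly mem_poly_of_std)

noncomputable section

namespace Groth.Agent.DetReg

attribute [local instance] CategoryTheory.Abelian.hasFiniteBiproducts

variable {k : Type u} [Field k] {r : ℕ}

local notation "A" => MvPolynomial (Fin (r + 1)) k
local notation "𝒜" => CohB1.polyGrading r k
local notation "𝒢" => GrSyz.stdGr k (Fin (r + 1))

/-- The pieces of a free module with all generators of degree `e`. -/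
def pc (I : Type) (e : ℕ) (a : ℕ) : Submodule k (I → MvPolynomial (Fin (r + 1)) k) :=
  Submodule.pi Set.univ fun _ => GrSyz.stdGr k (Fin (r + 1)) ((a : ℤ) - e)

lemma mem_pc {I : Type} {e a : ℕ} {v : I → A} : v ∈ pc (k := k) I e a ↔ ∀ b, v b ∈ 𝒢 ((a : ℤ) - e) := by
  simp [pc, Submodule.mem_pi]

instance pcGradedSMul (I : Type) (e : ℕ) : SetLike.GradedSMul (CohB1.polyGrading r k) (pc (k := k) (r := r) I e) where
  smul_mem {a j p v} hp hv := mem_pc.2 fun b => by
    have := SetLike.mul_mem_graded (mem_std_of_poly hp) (mem_pc.1 hv b)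
    rw [vadd_eq_add, Nat.cast_add, add_sub_assoc]
    exact this

/-- A component. -/
def cp (e : ℤ) (x : MvPolynomial (Fin (r + 1)) k) : MvPolynomial (Fin (r + 1)) k :=
  (DirectSum.decompose (GrSyz.stdGr k (Fin (r + 1))) x e : MvPolynomial (Fin (r + 1)) k)

lemma cp_mem (e : ℤ) (x : A) : cp e x ∈ 𝒢 e := (DirectSum.decompose 𝒢 x e).2

lemma cp_of_mem {e : ℤ} {x : A} (hx : x ∈ 𝒢 e) : cp e x = x := DirectSum.decompose_of_mem_same 𝒢 hx

/-- Linear maps with entries of one degree commute with taking components. -/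
lemma cp_map {I : Type} [Fintype I] [DecidableEq I] (F : (I → A) →ₗ[A] A) (c : ℤ)
    (hF : ∀ u, F (Pi.single u 1) ∈ 𝒢 c) (e : ℤ) (v : I → A) : cp (e + c) (F v) = F (fun u => cp e (v u)) := by
  have h : ∀ v : I → A, F v = ∑ u, v u * F (Pi.single u 1) := fun v => by
    conv_lhs => rw [pi_eq_sum_univ' v, map_sum]
    exact Finset.sum_congr rfl fun u _ => by rw [map_smul, smul_eq_mul]
  rw [h v, h (fun u => cp e (v u))]
  simp only [cp, DirectSum.decompose_sum, DFinsupp.finsetSum_apply, DirectSum.sum_apply, AddSubmonoidClass.coe_finsetSum]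
  exact Finset.sum_congr rfl fun u _ => DirectSum.coe_decompose_mul_add_of_right_mem 𝒢 (hF u)

section Complex

variable {m n : ℕ} (L : Fin m → Fin n → MvPolynomial (Fin (r + 1)) k)
  (hL : ∀ a b, L a b ∈ CohB1.polyGrading r k 1)

/-- Indices of a term. -/
abbrev Idx (m n s : ℕ) : Type := ↥(Finset.piAntidiag (Finset.univ : Finset (Fin m)) s) × (Fin (m + s) → Fin n)

lemma mem_piAntidiag' {s : ℕ} {β : Fin m → ℕ} :
    β ∈ Finset.piAntidiag (Finset.univ : Finset (Fin m)) s ↔ ∑ j, β j = s := by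
  simp [Finset.mem_piAntidiag]

/-- Extension by zero. -/
def extC (s : ℕ) : (Idx m n s → A) →ₗ[A] ((Fin m → ℕ) → Sh A n (m + s)) where
  toFun z γ t := if h : ∑ j, γ j = s then z (⟨γ, mem_piAntidiag'.2 h⟩, t) else 0
  map_add' a b := by funext γ t; by_cases h : ∑ j, γ j = s <;> simp [h]
  map_smul' c a := by funext γ t; by_cases h : ∑ j, γ j = s <;> simp [h]

lemma extC_apply {s : ℕ} (z : Idx m n s → A) (γ : Fin m → ℕ) (h : ∑ j, γ j = s) (t : Fin (m + s) → Fin n) :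
    extC s z γ t = z (⟨γ, mem_piAntidiag'.2 h⟩, t) := dif_pos h

/-- The differential. -/
def Dd (s : ℕ) : (Idx m n (s + 1) → A) →ₗ[A] (Idx m n s → A) where
  toFun z bt := dd Finset.univ L (extC (s + 1) z) bt.1.1 bt.2
  map_add' a b := by
    funext bt
    simp only [dd, map_add, Pi.add_apply, Finset.sum_add_distrib]
  map_smul' c a := by funext bt; simp [dd, Finset.mul_sum]

lemma extC_Dd (s : ℕ) (z : Idx m n (s + 1) → A) (β : Fin m → ℕ) (h : ∑ j, β j = s) :
    extC s (Dd L s z) β = dd Finset.univ L (extC (s + 1) z) β := by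
  funext t
  rw [extC_apply _ _ h]
  rfl

lemma Dd_Dd (s : ℕ) (z : Idx m n (s + 2) → A) : Dd L s (Dd L (s + 1) z) = 0 := by
  funext bt
  have hb : ∑ j, bt.1.1 j = s := mem_piAntidiag'.1 bt.1.2
  have h : ∀ j : Fin m, extC (s + 1) (Dd L (s + 1) z) (bt.1.1 + δ j) =
      dd Finset.univ L (extC (s + 2) z) (bt.1.1 + δ j) :=
    fun j => extC_Dd L (s + 1) z _ (by rw [sum_add_δ, hb])
  change dd Finset.univ L (extC (s + 1) (Dd L (s + 1) z)) bt.1.1 bt.2 = 0
  rw [dd, Finset.sum_congr rfl fun j _ => by rw [h j]]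
  exact congrFun (dd_dd Finset.univ L (extC (s + 2) z) bt.1.1) bt.2

/-- The augmentation. -/
def Aug : (Idx m n 0 → A) →ₗ[A] A :=
  aug L ∘ₗ LinearMap.proj (0 : Fin m → ℕ) ∘ₗ extC (m := m) (n := n) 0

lemma Aug_Dd (z : Idx m n 1 → A) : Aug L (Dd L 0 z) = 0 := by
  change aug L (extC 0 (Dd L 0 z) 0) = 0
  rw [extC_Dd L 0 z 0 (by simp), dd, map_sum]
  exact Finset.sum_eq_zero fun j _ => aug_cont L j _

/-- The maximal minors. -/
def Mn (t : Fin m → Fin n) : A := (Matrix.of fun a p => L a (t p)).det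

lemma Aug_apply (z : Idx m n 0 → A) : Aug L z = ∑ t : Fin m → Fin n, extC 0 z 0 t * Mn L t := by
  change aug L (extC 0 z 0) = _
  have h : ∀ w : Sh A n m, aug L w = ∑ t : Fin m → Fin n, w t * Mn L t := fun w => by
    conv_lhs => rw [pi_eq_sum_univ' w, map_sum]
    exact Finset.sum_congr rfl fun t _ => by rw [map_smul, smul_eq_mul, aug_single]; rfl
  exact h _

/-- The ideal of maximal minors. -/
abbrev MI : Ideal (MvPolynomial (Fin (r + 1)) k) := Ideal.span (Set.range (Mn L))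

lemma Aug_mem (z : Idx m n 0 → A) : Aug L z ∈ MI L := by
  rw [Aug_apply]
  exact Ideal.sum_mem _ fun t _ => Ideal.mul_mem_left _ _ (Ideal.subset_span ⟨t, rfl⟩)

include hL

lemma Mn_mem (t : Fin m → Fin n) : Mn L t ∈ CohB1.polyGrading r k m := by
  rw [Mn, Matrix.det_apply]
  refine Submodule.sum_mem _ fun σ _ => zsmul_mem ?_ _
  have h : ∀ p ∈ (Finset.univ : Finset (Fin m)),
      MvPolynomial.IsHomogeneous (Matrix.of (fun a p => L a (t p)) (σ p) p) 1 := fun p _ => hL _ _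
  have := MvPolynomial.IsHomogeneous.prod Finset.univ _ (fun _ => 1) h
  simpa using this

lemma Dd_mem (s : ℕ) {a : ℤ} {v : Idx m n (s + 1) → A} (hv : ∀ b, v b ∈ 𝒢 a) (bt : Idx m n s) :
    Dd L s v bt ∈ 𝒢 (a + 1) := by
  change dd Finset.univ L (extC (s + 1) v) bt.1.1 bt.2 ∈ _
  rw [dd, Finset.sum_apply]
  refine Submodule.sum_mem _ fun j _ => cont_mem (𝒢 (a + 1)) (𝒢 a : Set A) (L j) (fun b x hx => ?_) _ (fun t => ?_) _
  · rw [add_comm a 1]
    exact SetLike.mul_mem_graded (mem_std_of_poly (m := 1) (hL j b)) hx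
  · have hj : ∑ i, (bt.1.1 + δ j) i = s + 1 := by rw [sum_add_δ, mem_piAntidiag'.1 bt.1.2]
    rw [extC_apply _ _ hj]
    exact hv _

lemma Aug_single_mem (u : Idx m n 0) : Aug L (Pi.single u 1) ∈ 𝒢 (m : ℤ) := by
  classical
  rw [Aug_apply]
  refine Submodule.sum_mem _ fun t _ => ?_
  rw [extC_apply _ _ (by simp), Pi.single_apply]
  split_ifs
  · rw [one_mul]; exact mem_std_of_poly (Mn_mem L hL t)
  · rw [zero_mul]; exact zero_mem _

lemma Aug_pc {a : ℕ} {v : Idx m n 0 → A} (hv : v ∈ pc (k := k) (Idx m n 0) (m + 0) a) :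
    Aug L v ∈ CohB1.polyGrading r k a := by
  refine mem_poly_of_std ?_
  rw [Aug_apply]
  refine Submodule.sum_mem _ fun t _ => ?_
  have h := mem_pc.1 hv (⟨0, mem_piAntidiag'.2 (by simp)⟩, t)
  rw [extC_apply _ _ (by simp)]
  have := SetLike.mul_mem_graded h (mem_std_of_poly (Mn_mem L hL t))
  rwa [Nat.cast_add, Nat.cast_zero, add_zero, sub_add_cancel] at this

lemma Dd_pc (s : ℕ) {a : ℕ} {v : Idx m n (s + 1) → A} (hv : v ∈ pc (k := k) (Idx m n (s + 1)) (m + (s + 1)) a) :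
    Dd L s v ∈ pc (k := k) (Idx m n s) (m + s) a := mem_pc.2 fun bt => by
  have h := Dd_mem L hL s (mem_pc.1 hv) bt
  rwa [show (a : ℤ) - ((m + (s + 1) : ℕ) : ℤ) + 1 = (a : ℤ) - ((m + s : ℕ) : ℤ) by push_cast; ring] at h

/-- The sheaf of a term. -/
abbrev Ct (m n s : ℕ) : (CohB1.ProjSpace r k).Modules :=
  GrTilde.tilde (CohB1.polyGrading r k) (pc (k := k) (r := r) (Idx m n s) (m + s)) 0

lemma shift_Dd (s : ℕ) :
    GrT.Shift (pc (k := k) (r := r) (Idx m n (s + 1)) (m + (s + 1))) (pc (Idx m n s) (m + s)) (Dd L s) 0 0 :=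
  fun a b h v hv => Or.inr ⟨a, h, Dd_pc L hL s hv⟩

lemma shift_Aug : GrT.Shift (pc (k := k) (r := r) (Idx m n 0) (m + 0)) (CohB1.polyGrading r k) (Aug L) 0 0 :=
  fun a b h v hv => Or.inr ⟨a, h, Aug_pc L hL hv⟩

omit hL in
lemma comp_eq_zero (s : ℕ) : Dd L s ∘ₗ Dd L (s + 1) = 0 := LinearMap.ext (Dd_Dd L s)

omit hL in
lemma aug_comp_eq_zero : Aug L ∘ₗ Dd L 0 = 0 := LinearMap.ext (Aug_Dd L)

/-- The terms. -/
def XX (m n : ℕ) : ℕ → (CohB1.ProjSpace r k).Modules
  | 0 => GrTilde.tilde (CohB1.polyGrading r k) (CohB1.polyGrading r k) 0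
  | s + 1 => Ct (k := k) (r := r) m n s

/-- The differentials. -/
def dXX : ∀ s, XX (k := k) (r := r) m n (s + 1) ⟶ XX (k := k) (r := r) m n s
  | 0 => GrT.mapTilde (CohB1.polyGrading r k) (shift_Aug L hL)
  | s + 1 => GrT.mapTilde (CohB1.polyGrading r k) (shift_Dd L hL s)

lemma dXX_comp : ∀ s, dXX L hL (s + 1) ≫ dXX L hL s = 0
  | 0 => by
    refine (GrT.mapTilde_comp (CohB1.polyGrading r k) _ _ (fun a b h v hv => Or.inl ?_)).trans
      (GrT.mapTilde_eq_zero (CohB1.polyGrading r k) (f := Aug L ∘ₗ Dd L 0) _ (aug_comp_eq_zero L))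
    exact LinearMap.congr_fun (aug_comp_eq_zero L) v
  | s + 1 => by
    refine (GrT.mapTilde_comp (CohB1.polyGrading r k) _ _ (fun a b h v hv => Or.inl ?_)).trans
      (GrT.mapTilde_eq_zero (CohB1.polyGrading r k) (f := Dd L s ∘ₗ Dd L (s + 1)) _ (comp_eq_zero L s))
    exact LinearMap.congr_fun (comp_eq_zero L s) v

/-- The complex. -/
def EC : ChainComplex ((CohB1.ProjSpace r k).Modules) ℕ :=
  ChainComplex.of (XX m n) (dXX L hL) (dXX_comp L hL)

lemma EC_d (s : ℕ) : (EC L hL).d (s + 1) s = dXX L hL s := ChainComplex.of_d (XX m n) (dXX L hL) s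

end Complex

section Local

variable {M : Type u} [AddCommGroup M] [Module k M] [Module (MvPolynomial (Fin (r + 1)) k) M] {ℳ : ℕ → Submodule k M}
  [SetLike.GradedSMul (CohB1.polyGrading r k) ℳ]
variable {N : Type u} [AddCommGroup N] [Module k N] [Module (MvPolynomial (Fin (r + 1)) k) N] {𝒩 : ℕ → Submodule k N}
  [SetLike.GradedSMul (CohB1.polyGrading r k) 𝒩]
variable {Q : Type u} [AddCommGroup Q] [Module k Q] [Module (MvPolynomial (Fin (r + 1)) k) Q] {𝒬 : ℕ → Submodule k Q}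
  [SetLike.GradedSMul (CohB1.polyGrading r k) 𝒬]

/-- Cycles are boundaries near a point if they are so up to an element not vanishing there. -/
theorem exists_lift_near {f : M →ₗ[A] N} {g : N →ₗ[A] Q} (hf : GrT.Shift ℳ 𝒩 f 0 0) (hg : GrT.Shift 𝒩 𝒬 g 0 0)
    (x : ProjectiveSpectrum (CohB1.polyGrading r k)) {u : A} {du : ℕ} (hu : u ∈ CohB1.polyGrading r k du)
    (hux : u ∉ x.asHomogeneousIdeal)
    (hlift : ∀ i : ℕ, ∀ z ∈ 𝒩 i, g z = 0 → ∃ w ∈ ℳ (du + i), f w = u • z)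
    (htor : ∀ (v : A) (z : Q), v • z = 0 → v = 0 ∨ z = 0)
    {U : (CohB1.ProjSpace r k).Opens} (hx : x ∈ U) (y : Γ(GrTilde.tilde (CohB1.polyGrading r k) 𝒩 0, U))
    (hy : (GrT.mapTilde (CohB1.polyGrading r k) hg).app U y = 0) :
    ∃ (V : (CohB1.ProjSpace r k).Opens) (hV : V ≤ U), x ∈ V ∧ ∃ s,
      (GrT.mapTilde (CohB1.polyGrading r k) hf).app V s = res _ hV y := by
  obtain ⟨e, i, a, b, he, hae, hbi, hn, hax, hle, hw⟩ := GrT.exists_frac_nhd 𝒜 𝒩 y ⟨x, hx⟩
  have h0 : GrT.fr 𝒜 x (g b) a hax = 0 := by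
    rw [← GrT.mapLoc_fr 𝒜 g x b hax, ← hw ⟨x, hx⟩ hax]
    exact congrArg (fun s => GrT.pt 𝒜 𝒬 s ⟨x, hx⟩) hy
  obtain ⟨v, hv, hvb⟩ := (GrT.fr_eq_zero_iff 𝒜 x hax).mp h0
  have hgb : g b = 0 := (htor v (g b) hvb).resolve_left fun h => hv (h ▸ zero_mem _)
  obtain ⟨w, hwm, hfw⟩ := hlift i b hbi hgb
  have hVle : ProjectiveSpectrum.basicOpen 𝒜 (u * a) ≤ U := fun z hz => hle
    ((ProjectiveSpectrum.mem_basicOpen 𝒜 a z).mpr
      (GrT.right_not_mem 𝒜 ((ProjectiveSpectrum.mem_basicOpen 𝒜 _ z).mp hz)))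
  let s : Γ(GrTilde.tilde (CohB1.polyGrading r k) ℳ 0, (ProjectiveSpectrum.basicOpen 𝒜 (u * a))) :=
    GrT.fracSect 𝒜 ℳ 0 hwm (SetLike.mul_mem_graded hu hae) (by push_cast; omega) _
      fun z : (ProjectiveSpectrum.basicOpen 𝒜 (u * a) : Opens (ProjectiveSpectrum.top (CohB1.polyGrading r k))) =>
        (ProjectiveSpectrum.mem_basicOpen 𝒜 _ z.1).mp z.2
  refine ⟨_, hVle, (ProjectiveSpectrum.mem_basicOpen 𝒜 _ x).mpr (GrT.not_mem_mul 𝒜 hux hax), s, ?_⟩
  refine GrT.pt_ext 𝒜 _ fun z => ?_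
  rw [GrT.pt_mapTilde]
  refine (GrT.mapLoc_fr 𝒜 f z.1 w _).trans ?_
  refine Eq.trans ?_ (hw ⟨z.1, hVle z.2⟩
    (GrT.right_not_mem 𝒜 ((ProjectiveSpectrum.mem_basicOpen 𝒜 _ z.1).mp z.2))).symm
  rw [hfw]
  exact GrT.fr_congr 𝒜 z.1 _ _ (by rw [smul_smul, mul_comm])

end Local

/-- Vanishing of the stalk of the homology from local lifts of cycles. -/
theorem notMem_support_homology {X : Scheme.{u}} (T : ShortComplex X.Modules) (x : X)
    (h : ∀ (U : X.Opens), x ∈ U → ∀ y : Γ(T.X₂, U), T.g.app U y = 0 →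
      ∃ (V : X.Opens) (hV : V ≤ U), x ∈ V ∧ ∃ s, T.f.app V s = res T.X₂ hV y) :
    x ∉ CohB1.support T.homology := by
  simp only [CohB1.support, Set.mem_setOf_eq, not_not]
  refine subsingleton_of_forall_eq 0 fun q => ?_
  obtain ⟨U, hxU, t, rfl⟩ := TopCat.Presheaf.exists_germ_eq T.homology.presheaf q
  obtain ⟨U', hU', hxU', c, hc⟩ := TMul.exists_app_eq_of_epi T.homologyπ t hxU
  have hy : T.g.app U' (T.iCycles.app U' c) = 0 := by
    rw [← ConcreteCategory.comp_apply, ← Scheme.Modules.Hom.comp_app, ShortComplex.iCycles_g]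
    rfl
  obtain ⟨V, hV, hxV, s, hs⟩ := h U' hxU' _ hy
  have hcs : T.toCycles.app V s = res T.cycles hV c := by
    refine QC.app_injective_of_mono T.iCycles V ?_
    rw [← ConcreteCategory.comp_apply, ← Scheme.Modules.Hom.comp_app, ShortComplex.toCycles_i, hs, app_res]
  have h0 : res T.homology (hV.trans hU') t = 0 := by
    rw [← QC.res_res T.homology hV hU', ← hc, app_res, ← hcs, ← ConcreteCategory.comp_apply,
      ← Scheme.Modules.Hom.comp_app, ShortComplex.toCycles_comp_homologyπ]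
    rfl
  rw [← TopCat.Presheaf.germ_res_apply T.homology.presheaf (homOfLE (hV.trans hU')) x hxV t]
  exact (congrArg _ h0).trans (map_zero _)

end Groth.Agent.DetReg
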