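import Groth.Agent.DetReg.Cx
import Groth.Agent.DetReg.Chart

/-!
The ideal of maximal minors of a matrix of linear forms is `m`-regular when its zero locus has dimension at most one.
-/

set_option autoImplicit false
set_option linter.unusedSectionVars false
set_option linter.style.haveILetI false
set_option backward.isDefEq.respectTransparency false
set_option maxHeartbeats 1000000

universe u

open CategoryTheory CategoryTheory.Limits AlgebraicGeometry TopologicalSpace
open Groth.Agent.QC (res resO app_res res_self resO_self)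
open Groth.Agent.RegTilde (mem_std_of_poly mem_poly_of_std)
open Groth.Agent.RegPow (D dh chI X_mem isAffine_D exists_D nonempty_iso_idealMod psiIso)

noncomputable section

namespace Groth.Agent.DetReg

attribute [local instance] CategoryTheory.Abelian.hasFiniteBiproducts

variable {k : Type u} [Field k] {r : ℕ}

local notation "A" => MvPolynomial (Fin (r + 1)) k
local notation "𝒜" => CohB1.polyGrading r k
local notation "𝒢" => GrSyz.stdGr k (Fin (r + 1))

section Split

variable (I : Type) [Fintype I] [DecidableEq I] (e : ℕ)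

/-- The sheaf of a free module with generators in degree `e`. -/
abbrev Fs : (CohB1.ProjSpace r k).Modules := GrTilde.tilde (CohB1.polyGrading r k) (pc (k := k) (r := r) I e) 0

/-- A summand. -/
abbrev Os : (CohB1.ProjSpace r k).Modules :=
  GrTilde.tilde (CohB1.polyGrading r k) (CohB1.polyGrading r k) (-(e : ℤ))

lemma shift_proj (b : I) : GrT.Shift (pc (k := k) (r := r) I e) (CohB1.polyGrading r k)
    (LinearMap.proj b : (I → A) →ₗ[A] A) 0 (-(e : ℤ)) := by
  intro a c h v hv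
  have hb := mem_pc.1 hv b
  by_cases hneg : (a : ℤ) - e < 0
  · exact Or.inl (GrSyzMin.eq_zero_of_deg_neg hneg hb)
  · refine Or.inr ⟨((a : ℤ) - e).toNat, by omega, mem_poly_of_std ?_⟩
    rwa [Int.toNat_of_nonneg (by omega)]

lemma shift_single (b : I) : GrT.Shift (CohB1.polyGrading r k) (pc (k := k) (r := r) I e)
    (LinearMap.single A (fun _ : I => A) b) (-(e : ℤ)) 0 := by
  intro a c h v hv
  refine Or.inr ⟨c, by omega, mem_pc.2 fun b' => ?_⟩
  by_cases hb : b' = b
  · subst hb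
    rw [LinearMap.single_apply, Pi.single_eq_same, show (c : ℤ) - e = (a : ℤ) by omega]
    exact mem_std_of_poly hv
  · rw [LinearMap.single_apply, Pi.single_eq_of_ne hb]
    exact zero_mem _

/-- Projection to a summand. -/
def sProj (b : I) : Fs (k := k) (r := r) I e ⟶ Os (k := k) (r := r) e :=
  GrT.mapTilde (CohB1.polyGrading r k) (shift_proj I e b)

/-- Inclusion of a summand. -/
def sIncl (b : I) : Os (k := k) (r := r) e ⟶ Fs (k := k) (r := r) I e :=
  GrT.mapTilde (CohB1.polyGrading r k) (shift_single I e b)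

lemma s_total : ∑ b, sProj (k := k) (r := r) I e b ≫ sIncl I e b = 𝟙 _ := by
  have hid : GrT.Shift (pc (k := k) (r := r) I e) (pc (k := k) (r := r) I e) (LinearMap.id : (I → A) →ₗ[A] _) 0 0 :=
    fun a c h v hv => Or.inr ⟨a, h, hv⟩
  have hc : ∀ b : I, GrT.Shift (pc (k := k) (r := r) I e) (pc (k := k) (r := r) I e)
      ((LinearMap.single A (fun _ : I => A) b) ∘ₗ LinearMap.proj b) 0 0 := by
    intro b a c h v hv
    refine Or.inr ⟨a, h, mem_pc.2 fun b' => ?_⟩
    by_cases hb : b' = b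
    · subst hb; simpa using mem_pc.1 hv b'
    · simp [Pi.single_eq_of_ne hb]
  simp only [sProj, sIncl]
  rw [← GrT.mapTilde_id (CohB1.polyGrading r k) hid,
    GrT.mapTilde_sum (CohB1.polyGrading r k) Finset.univ hid _ hc]
  · exact Finset.sum_congr rfl fun b _ => GrT.mapTilde_comp (CohB1.polyGrading r k) _ _ (hc b)
  · exact LinearMap.ext fun v => by simp [LinearMap.sum_apply, Finset.univ_sum_single]

lemma s_incl_proj (b b' : I) :
    sIncl (k := k) (r := r) I e b ≫ sProj I e b' = if b = b' then 𝟙 _ else 0 := by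
  by_cases hb : b = b'
  · subst hb
    rw [if_pos rfl]
    have hid : GrT.Shift (CohB1.polyGrading r k) (CohB1.polyGrading r k) (LinearMap.id : A →ₗ[A] A) (-(e : ℤ)) (-(e : ℤ)) :=
      fun a c h v hv => Or.inr ⟨a, h, hv⟩
    have he : (LinearMap.proj b : (I → A) →ₗ[A] A) ∘ₗ LinearMap.single A (fun _ : I => A) b = LinearMap.id :=
      LinearMap.ext fun v => by simp
    rw [sIncl, sProj, GrT.mapTilde_comp (CohB1.polyGrading r k) _ _ (he ▸ hid)]
    simp only [he]
    exact GrT.mapTilde_id (CohB1.polyGrading r k) hid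
  · rw [if_neg hb]
    have he : (LinearMap.proj b' : (I → A) →ₗ[A] A) ∘ₗ LinearMap.single A (fun _ : I => A) b = 0 :=
      LinearMap.ext fun v => by simp [Pi.single_eq_of_ne (Ne.symm hb)]
    rw [sIncl, sProj, GrT.mapTilde_comp (CohB1.polyGrading r k) _ _
      (RegTilde.shift_zero _ _ he _ _), GrT.mapTilde_eq_zero (CohB1.polyGrading r k) _ he]

lemma isCoh_Fs : Coh.IsCoh (Fs (k := k) (r := r) I e) := by
  haveI : IsNoetherian (CohB1.ProjSpace r k) := CohFinite.isNoetherian_projSpace r k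
  refine CohFinite.isCoh_of_iso (?_ : ⨁ (fun _ : I => Os (k := k) (r := r) e) ≅ Fs (k := k) (r := r) I e)
    (Devissage.isCoh_biproduct _ fun _ => CohFinite.isCoh_twist r k _)
  refine ⟨biproduct.desc fun b => sIncl I e b, biproduct.lift fun b => sProj I e b, ?_, ?_⟩
  · refine biproduct.hom_ext' _ _ fun b => biproduct.hom_ext _ _ fun b' => ?_
    rw [Category.comp_id, biproduct.ι_desc_assoc, Category.assoc, biproduct.lift_π, s_incl_proj, biproduct.ι_π]
    by_cases hb : b = b'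
    · subst hb; simp
    · simp [hb]
  · rw [biproduct.lift_desc]
    exact s_total I e

lemma regular_Fs (d : ℤ) (hd : (e : ℤ) ≤ d) : Curv2.IsMRegular k r (Fs (k := k) (r := r) I e) d := by
  intro q hq hqr
  refine CohFinite.subsingleton_of_split _
    (fun _ : I => CohB1.tensorMod (Os (k := k) (r := r) e) (Twist.twistProjSpace r k (d - q)))
    (fun b => CohFinite.tmap (sIncl I e b) _) (fun b => CohFinite.tmap (sProj I e b) _) ?_ q fun b => ?_
  · simp only [← CohFinite.tmap_comp]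
    exact (CohFinite.tmap_sum _ _ _).symm.trans
      ((congrArg (fun ψ => CohFinite.tmap ψ _) (s_total I e)).trans (CohFinite.tmap_id _ _))
  · obtain ⟨ε⟩ := GrT.nonempty_tensor_iso (a := -(e : ℤ)) (b := d - q) (c := -(e : ℤ) + (d - q))
      (CohB1.polyGrading r k) (CohFinite.cov_one r k) rfl
    refine CohQC.hh_subsingleton_of_iso ε.symm _ (ProjCech.twist_vanish r _ q (by omega) ?_)
    rintro ⟨rfl, h⟩
    omega

end Split

lemma isMRegular_twist_zero (d : ℤ) (hd : 0 ≤ d) :
    Curv2.IsMRegular k r (GrTilde.tilde (CohB1.polyGrading r k) (CohB1.polyGrading r k) 0) d := by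
  intro q hq hqr
  obtain ⟨ε⟩ := GrT.nonempty_tensor_iso (a := (0 : ℤ)) (b := d - q) (c := d - q)
    (CohB1.polyGrading r k) (CohFinite.cov_one r k) (zero_add _)
  refine CohQC.hh_subsingleton_of_iso ε.symm _ (ProjCech.twist_vanish r _ q (by omega) ?_)
  rintro ⟨rfl, h⟩
  omega

section

variable {m n : ℕ} (L : Fin m → Fin n → MvPolynomial (Fin (r + 1)) k)
  (hL : ∀ a b, L a b ∈ CohB1.polyGrading r k 1)

lemma exists_primitive' (V : Fin m → Fin n → A) (Δ : A)
    (hV : ∀ l j, ∑ b, L l b * V j b = if l = j then Δ else 0) (J : Finset (Fin m)) (i : ℕ) :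
    ∀ (p : ℕ), 1 ≤ p → ∀ f : (Fin m → ℕ) → Sh A n (p + 1), (∀ β, Wt J i β → dd J L f β = 0) →
    ∃ g : (Fin m → ℕ) → Sh A n (p + 1 + 1), ∀ β, Wt J (i + 1) β → dd J L g β = Δ ^ J.card • f β
  | 0, h, _, _ => absurd h (by omega)
  | p + 1, _, f, hf => exists_primitive L Δ V hV J i p f hf

include hL

lemma cycle_lift (t : Fin m → Fin n) (hm : 1 ≤ m) (i a : ℕ) {z : Idx m n (i + 1) → A}
    (hz : z ∈ pc (k := k) (Idx m n (i + 1)) (m + (i + 1)) a) (h0 : Dd L i z = 0) :
    ∃ w ∈ pc (k := k) (Idx m n (i + 2)) (m + (i + 2)) (m • m + a), Dd L (i + 1) w = Mn L t ^ m • z := by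
  classical
  obtain ⟨V, hV⟩ := exists_dual L t
  obtain ⟨g, hg⟩ := exists_primitive' L V (Mn L t) hV Finset.univ i (m + i) (by omega) (extC (i + 1) z) fun β hβ => by
    refine (extC_Dd L i z β hβ.2).symm.trans ?_
    rw [h0, map_zero]
    rfl
  let g0 : Idx m n (i + 2) → A := fun bt => g bt.1.1 bt.2
  have hext : ∀ γ : Fin m → ℕ, ∑ j, γ j = i + 2 → extC (i + 2) g0 γ = g γ := fun γ h => funext fun u => extC_apply _ _ h _
  let e : ℤ := ((m • m + a : ℕ) : ℤ) - ((m + (i + 2) : ℕ) : ℤ)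
  refine ⟨fun u => cp e (g0 u), mem_pc.2 fun u => cp_mem _ _, funext fun bt => ?_⟩
  have hb : ∑ j, bt.1.1 j = i + 1 := mem_piAntidiag'.1 bt.1.2
  have hF : ∀ u, (LinearMap.proj bt ∘ₗ Dd L (i + 1)) (Pi.single u 1) ∈ 𝒢 (1 : ℤ) := fun u => by
    have h := Dd_mem L hL (i + 1) (a := 0) (v := Pi.single u 1) (fun b => by
      rw [Pi.single_apply]
      split_ifs
      · exact SetLike.one_mem_graded _
      · exact zero_mem _) bt
    rwa [zero_add] at h
  refine ((cp_map (LinearMap.proj bt ∘ₗ Dd L (i + 1)) 1 hF e g0).symm).trans ?_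
  have hd : (LinearMap.proj bt ∘ₗ Dd L (i + 1)) g0 = (Mn L t ^ m • z) bt := by
    change dd Finset.univ L (extC (i + 2) g0) bt.1.1 bt.2 = _
    rw [dd, Finset.sum_congr rfl fun j _ => by rw [hext _ (by rw [sum_add_δ, hb])]]
    have h := congrFun (hg bt.1.1 ⟨fun j hj => absurd (Finset.mem_univ j) hj, hb⟩) bt.2
    rw [Finset.card_univ, Fintype.card_fin] at h
    refine h.trans ?_
    change Mn L t ^ m * _ = Mn L t ^ m * _
    rw [extC_apply _ _ hb]
  rw [hd]
  refine cp_of_mem ?_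
  have h := SetLike.mul_mem_graded (mem_std_of_poly (m := m • m)
    (SetLike.pow_mem_graded m (Mn_mem L hL t))) (mem_pc.1 hz bt)
  rwa [show ((m • m : ℕ) : ℤ) + ((a : ℤ) - ((m + (i + 1) : ℕ) : ℤ)) = e + 1 by simp only [e]; push_cast; ring] at h

lemma cycle_lift_zero (t : Fin m → Fin n) (a : ℕ) {z : Idx m n 0 → A}
    (hz : z ∈ pc (k := k) (Idx m n 0) (m + 0) a) (h0 : Aug L z = 0) :
    ∃ w ∈ pc (k := k) (Idx m n 1) (m + 1) (m • m + a), Dd L 0 w = Mn L t ^ m • z := by
  classical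
  obtain ⟨V, hV⟩ := exists_dual L t
  obtain ⟨g, hg⟩ := exists_primitive_zero L (Mn L t) V hV (extC 0 z 0) h0
  let g0 : Idx m n 1 → A := fun bt => ∑ j, if bt.1.1 = δ j then g j bt.2 else 0
  have hext : ∀ j : Fin m, extC 1 g0 (δ j) = g j := fun j => funext fun u => by
    rw [extC_apply _ _ (by simp [δ]) u]
    change (∑ j', if δ j = δ j' then g j' u else 0) = _
    rw [Finset.sum_eq_single j (fun j' _ hne => ?_) (fun h => absurd (Finset.mem_univ _) h), if_pos rfl]
    refine if_neg fun he => hne ?_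
    by_contra hne'
    have := congrFun he j
    simp [δ, Pi.single_eq_of_ne (Ne.symm hne')] at this
  let e : ℤ := ((m • m + a : ℕ) : ℤ) - ((m + 1 : ℕ) : ℤ)
  refine ⟨fun u => cp e (g0 u), mem_pc.2 fun u => cp_mem _ _, funext fun bt => ?_⟩
  have hb0 : bt.1.1 = 0 := funext fun j => by
    have hs : ∑ j, bt.1.1 j = 0 := mem_piAntidiag'.1 bt.1.2
    exact Finset.sum_eq_zero_iff.1 hs j (Finset.mem_univ j)
  have hF : ∀ u, (LinearMap.proj bt ∘ₗ Dd L 0) (Pi.single u 1) ∈ 𝒢 (1 : ℤ) := fun u => by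
    have h := Dd_mem L hL 0 (a := 0) (v := Pi.single u 1) (fun b => by
      rw [Pi.single_apply]
      split_ifs
      · exact SetLike.one_mem_graded _
      · exact zero_mem _) bt
    rwa [zero_add] at h
  refine ((cp_map (LinearMap.proj bt ∘ₗ Dd L 0) 1 hF e g0).symm).trans ?_
  have hd : (LinearMap.proj bt ∘ₗ Dd L 0) g0 = (Mn L t ^ m • z) bt := by
    change dd Finset.univ L (extC 1 g0) bt.1.1 bt.2 = _
    rw [hb0, dd, Finset.sum_congr rfl fun j _ => by rw [zero_add, hext j]]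
    refine (congrFun hg bt.2).trans ?_
    change Mn L t ^ m * extC 0 z 0 bt.2 = Mn L t ^ m * z bt
    rw [extC_apply _ _ (by simp)]
    exact congrArg (fun q => Mn L t ^ m * z q) (Prod.ext (Subtype.ext hb0.symm) rfl)
  rw [hd]
  refine cp_of_mem ?_
  have h := SetLike.mul_mem_graded (mem_std_of_poly (m := m • m)
    (SetLike.pow_mem_graded m (Mn_mem L hL t))) (mem_pc.1 hz bt)
  rwa [show ((m • m : ℕ) : ℤ) + ((a : ℤ) - ((m + 0 : ℕ) : ℤ)) = e + 1 by simp only [e]; push_cast; ring] at h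

omit hL

/-- The augmentation onto the ideal. -/
def augN : (Idx m n 0 → A) →ₗ[A] MI L := (Aug L).codRestrict (MI L) (Aug_mem L)

include hL

lemma shift_augN : GrT.Shift (pc (k := k) (r := r) (Idx m n 0) (m + 0))
    (GrT.subPiece (CohB1.polyGrading r k) (MI L)) (augN L) 0 0 :=
  fun a b h v hv => Or.inr ⟨a, h, Aug_pc L hL hv⟩

lemma epi_augN : Epi (GrT.mapTilde (CohB1.polyGrading r k) (shift_augN L hL)) := by
  classical
  refine GrT.epi_mapTilde (CohB1.polyGrading r k) _ fun i b hb => ?_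
  obtain ⟨c, hc⟩ := (Ideal.mem_span_range_iff_exists_fun (R := A)).1 b.2
  let z : Idx m n 0 → A := fun u => c u.2
  have hz : Aug L z = b := by
    rw [Aug_apply, ← hc]
    exact Finset.sum_congr rfl fun t _ => by rw [extC_apply _ _ (by simp)]
  refine ⟨fun u => cp ((i : ℤ) - ((m + 0 : ℕ) : ℤ)) (z u), mem_pc.2 fun u => cp_mem _ _, Subtype.ext ?_⟩
  change Aug L (fun u => cp _ (z u)) = b
  rw [← cp_map (Aug L) (m : ℤ) (Aug_single_mem L hL) _ z, hz,
    show (i : ℤ) - ((m + 0 : ℕ) : ℤ) + m = i by push_cast; ring]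
  exact cp_of_mem (mem_std_of_poly hb)

omit hL in
lemma mono_subMI : Mono (GrT.subTilde (CohB1.polyGrading r k) (CohB1.polyGrading r k) (MI L)) :=
  (QC.mono_iff_app_injective _).mpr fun W s t h => GrT.pt_ext 𝒜 _ fun y =>
    GrT.subLoc_injective 𝒜 (MI L) y.1 ((GrT.pt_subTilde 𝒜 𝒜 (MI L) s y).symm.trans
      ((congrArg (fun q => GrT.pt 𝒜 𝒜 q y) h).trans (GrT.pt_subTilde 𝒜 𝒜 (MI L) t y)))

lemma augN_fac : GrT.mapTilde (CohB1.polyGrading r k) (shift_augN L hL) ≫
    GrT.subTilde (CohB1.polyGrading r k) (CohB1.polyGrading r k) (MI L) =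
    GrT.mapTilde (CohB1.polyGrading r k) (shift_Aug L hL) := by
  refine Scheme.Modules.hom_ext _ _ fun U => ?_
  ext s
  exact GrT.pt_ext 𝒜 _ fun y => GrT.mapLoc_comp 𝒜 (augN L) (MI L).subtype y.1 _

lemma nonempty_image_iso (I : (CohB1.ProjSpace r k).IdealSheafData)
    (hI : ∀ i, chI I i = (MI L).map (dh i)) :
    Nonempty (Abelian.image ((EC L hL).d (0 + 1) 0) ≅ ClSub.idealMod I) := by
  haveI := epi_augN L hL
  haveI := mono_subMI L
  haveI : StrongEpi (GrT.mapTilde (CohB1.polyGrading r k) (shift_augN L hL)) := strongEpi_of_epi _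
  obtain ⟨e₂⟩ := nonempty_iso_idealMod I (Mn L) (fun _ => m) (Mn_mem L hL) hI
  have hd : (EC L hL).d (0 + 1) 0 = GrT.mapTilde (CohB1.polyGrading r k) (shift_Aug L hL) := EC_d L hL 0
  let f := GrT.mapTilde (CohB1.polyGrading r k) (shift_Aug L hL)
  let e₁ : GrTilde.tilde (CohB1.polyGrading r k) (GrT.subPiece (CohB1.polyGrading r k) (MI L)) 0 ≅ Limits.image f :=
    image.isoStrongEpiMono _ _ (augN_fac L hL)
  rw [hd]
  exact ⟨Abelian.imageIsoImage f ≪≫ e₁.symm ≪≫ e₂⟩

lemma isCoh_X (s : ℕ) : Coh.IsCoh ((EC L hL).X s) := by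
  classical
  cases s with
  | zero => exact CohFinite.isCoh_twist r k 0
  | succ s => exact isCoh_Fs (Idx m n s) (m + s)

lemma regular_X (hm : 1 ≤ m) (s : ℕ) : Curv2.IsMRegular k r ((EC L hL).X s) ((m : ℤ) - 1 + s) := by
  classical
  cases s with
  | zero => exact isMRegular_twist_zero _ (by omega)
  | succ s => exact regular_Fs (Idx m n s) (m + s) _ (by push_cast; omega)

lemma notMem_support (hm : 1 ≤ m) (x : CohB1.ProjSpace r k) (t : Fin m → Fin n)
    (ht : Mn L t ∉ x.asHomogeneousIdeal) (i : ℕ) (hi : 0 < i) : x ∉ CohB1.support ((EC L hL).homology i) := by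
  classical
  obtain ⟨s, rfl⟩ : ∃ s, i = s + 1 := ⟨i - 1, by omega⟩
  rw [ClSubLib.support_congr ((EC L hL).homologyIsoSc' (s + 1 + 1) (s + 1) s (by simp) (by simp))]
  refine notMem_support_homology _ x fun U hx y hy => ?_
  have hu : Mn L t ^ m ∈ CohB1.polyGrading r k (m • m) := SetLike.pow_mem_graded m (Mn_mem L hL t)
  have hux : Mn L t ^ m ∉ x.asHomogeneousIdeal := GrT.not_mem_pow 𝒜 ht m
  change ((EC L hL).d (s + 1) s).app U y = 0 at hy
  rw [EC_d L hL s] at hy
  change ∃ (V : (CohB1.ProjSpace r k).Opens) (hV : V ≤ U), x ∈ V ∧ ∃ w, ((EC L hL).d (s + 1 + 1) (s + 1)).app V w = _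
  rw [EC_d L hL (s + 1)]
  cases s with
  | zero =>
    exact exists_lift_near (shift_Dd L hL 0) (shift_Aug L hL) x hu hux
      (fun i z hz h0 => cycle_lift_zero L hL t i hz h0) (fun v z h => mul_eq_zero.1 h) hx y hy
  | succ s =>
    refine exists_lift_near (shift_Dd L hL (s + 1)) (shift_Dd L hL s) x hu hux
      (fun i z hz h0 => cycle_lift L hL t hm s i hz h0) (fun v z h => ?_) hx y hy
    by_cases hv : v = 0
    · exact Or.inl hv
    · exact Or.inr (funext fun b => (mul_eq_zero.1 (congrFun h b)).resolve_left hv)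

end

/-- A point outside the zero locus avoids some generator. -/
lemma exists_notMem {κ : Type*} (g : κ → MvPolynomial (Fin (r + 1)) k) (e : ℕ)
    (hg : ∀ j, g j ∈ CohB1.polyGrading r k e) (I : (CohB1.ProjSpace r k).IdealSheafData)
    (hI : ∀ i, chI I i = (Ideal.span (Set.range g)).map (dh i)) (x : CohB1.ProjSpace r k)
    (hx : x ∉ (I.support : Set (CohB1.ProjSpace r k))) : ∃ j, g j ∉ x.asHomogeneousIdeal := by
  obtain ⟨i, hxi⟩ := exists_D (k := k) x
  have h : x ∉ (CohB1.ProjSpace r k).zeroLocus (U := D (k := k) i) (chI I i) := by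
    intro hz
    have := (Set.ext_iff.mp (I.coe_support_inter ⟨D i, isAffine_D i⟩) x).2 ⟨hz, hxi⟩
    exact hx this.1
  rw [hI, Ideal.map_span, Scheme.zeroLocus_span, Scheme.mem_zeroLocus_iff] at h
  simp only [Set.forall_mem_image, Set.forall_mem_range, not_forall, not_not] at h
  obtain ⟨j, hj⟩ := h
  refine ⟨j, fun hmem => ?_⟩
  obtain ⟨c, hc⟩ := (QC.isUnit_resO_basicOpen (isAffine_D (k := k) i) (dh i (g j))).exists_left_inv
  have hV : (CohB1.ProjSpace r k).basicOpen (dh i (g j)) ≤ D (k := k) i := Scheme.basicOpen_le _ _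
  have hy := GrT.not_mem_pow 𝒜 (GrT.not_mem_of_mem 𝒜 hV ⟨x, hj⟩) e
  have h1 : GrT.pO 𝒜 c ⟨x, hj⟩ * (Localization.mk (g j) ⟨(MvPolynomial.X i : A) ^ e, hy⟩ : Twist.Loc 𝒜 x) = 1 := by
    refine Eq.trans ?_ ((congrArg (fun q => GrT.pO 𝒜 q ⟨x, hj⟩) hc).trans (GrT.pO_one 𝒜 _))
    refine Eq.trans ?_ (GrT.pO_mul 𝒜 c _ ⟨x, hj⟩).symm
    exact congrArg (GrT.pO 𝒜 c ⟨x, hj⟩ * ·) (GrT.pO_deh 𝒜 (X_mem i) (hg j) hV ⟨x, hj⟩ hy).symm
  have hun : IsUnit (Localization.mk (g j) (⟨(MvPolynomial.X i : A) ^ e, hy⟩ :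
      x.asHomogeneousIdeal.toIdeal.primeCompl) : Twist.Loc 𝒜 x) := IsUnit.of_mul_eq_one_right _ h1
  rw [Localization.mk_eq_mk', IsLocalization.AtPrime.isUnit_mk'_iff] at hun
  exact hun hmem

/-- The ideal of maximal minors is `m`-regular when its zero locus is at most one-dimensional. -/
theorem main {m n : ℕ} (L : Fin m → Fin n → MvPolynomial (Fin (r + 1)) k)
    (hL : ∀ a b, L a b ∈ CohB1.polyGrading r k 1) (I : (CohB1.ProjSpace r k).IdealSheafData)
    (hI : ∀ i, chI I i = (MI L).map (dh i))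
    (hdim : topologicalKrullDim (I.support : Set (CohB1.ProjSpace r k)) ≤ 1) :
    Curv2.IsMRegular k r (ClSub.idealMod I) m := by
  rcases Nat.eq_zero_or_pos m with rfl | hm
  · have htop : ∀ i, chI I i = ⊤ := fun i => by
      rw [hI, Ideal.eq_top_iff_one]
      rw [← map_one (dh (k := k) i)]
      refine Ideal.mem_map_of_mem _ (Ideal.subset_span ⟨Fin.elim0, ?_⟩)
      simp [Mn]
    haveI : Mono (psiIso (k := k) (r := r)).inv := inferInstance
    let U : ULift.{u} (Fin (r + 1)) → (CohB1.ProjSpace r k).Opens := fun i => D i.down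
    have hcov : ∀ x : CohB1.ProjSpace r k, ∃ i, x ∈ U i := fun x => by
      obtain ⟨i, hi⟩ := exists_D x
      exact ⟨⟨i⟩, hi⟩
    have hrange : ∀ i, LinearMap.range (QC.appₗ (ClSub.idealModι I) (D (k := k) i)) = ⊤ := fun i =>
      eq_top_iff.2 fun t _ => (QC.mem_range_idealModι_affine I ⟨D i, isAffine_D i⟩ t).2 (by
        change t ∈ chI I i
        rw [htop]; trivial)
    haveI : IsIso (ClSub.idealModι I) := by
      have h1 := IdealMulSec.mk_le_mk U (fun i => isAffine_D i.down) hcov (QC.isQCoh_unit _)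
        (𝟙 (Coh.structureModule (CohB1.ProjSpace r k))) (ClSub.idealModι I) fun i => by
          rw [hrange i.down]; exact le_top
      exact (Subobject.isIso_iff_mk_eq_top _).2 (top_le_iff.1 ((Subobject.mk_eq_top_of_isIso (𝟙 _)).ge.trans h1))
    intro q hq hqr
    exact CohQC.hh_subsingleton_of_iso (PicGrp.tensorModIso
      (asIso (ClSub.idealModι I) ≪≫ psiIso (k := k) (r := r)).symm (Iso.refl _)) _
      (isMRegular_twist_zero (k := k) (r := r) ((0 : ℕ) : ℤ) le_rfl q hq hqr)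
  intro q hq hqr
  obtain ⟨e⟩ := nonempty_image_iso L hL I hI
  have h := (RegCx.regular_of_complex (EC L hL) (isCoh_X L hL) ((m : ℤ) - 1) (regular_X L hL hm) (fun i hi => ?_)
    (r + 1) q 0 (by omega) hq).2
  · rw [show (m : ℤ) - 1 + ((0 : ℕ) : ℤ) + 1 - (q : ℤ) = (m : ℤ) - q by push_cast; ring] at h
    exact CohQC.hh_subsingleton_of_iso (PicGrp.tensorModIso e (Iso.refl _)) _ h
  · have hsub : CohB1.support ((EC L hL).homology i) ⊆ (I.support : Set (CohB1.ProjSpace r k)) := fun x hx => by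
      by_contra hxI
      obtain ⟨t, ht⟩ := exists_notMem (Mn L) m (Mn_mem L hL) I hI x hxI
      exact notMem_support L hL hm x t ht i hi hx
    exact le_trans ((Topology.IsEmbedding.inclusion hsub).isInducing.topologicalKrullDim_le) hdim

end Groth.Agent.DetReg
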